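import Groth.Agent.L05.Point.Crit
import Mathlib.RingTheory.Unramified.LocalRing
import Mathlib.RingTheory.Unramified.Finite
import Mathlib.RingTheory.Flat.FaithfullyFlat.Algebra
import Mathlib.AlgebraicGeometry.Noetherian

/-!
# Unramified and étale at a point in terms of local rings
-/

set_option autoImplicit false
set_option linter.style.haveILetI false
set_option backward.isDefEq.respectTransparency.types false
set_option backward.isDefEq.respectTransparency false

universe u

open CategoryTheory CategoryTheory.Limits AlgebraicGeometry TopologicalSpace IsLocalRing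

namespace Groth.L05.Point

/-- Unramified near a point iff the stalk map is unramified. -/
theorem nhd_formallyUnramified_iff_stalkMap {X Y : Scheme.{u}} (f : X ⟶ Y) [LocallyOfFiniteType f]
    (x : X) : Nhd @FormallyUnramified f x ↔ (f.stalkMap x).hom.FormallyUnramified := by
  constructor
  · rintro ⟨U, hxU, hU⟩
    have h := FormallyUnramified.stalkMap (f := U.ι ≫ f) ⟨x, hxU⟩
    rw [Scheme.Hom.stalkMap_comp] at h
    have e : f.stalkMap x = (f.stalkMap (U.ι ⟨x, hxU⟩) ≫ U.ι.stalkMap ⟨x, hxU⟩) ≫
        inv (U.ι.stalkMap ⟨x, hxU⟩) := by simp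
    rw [e]
    exact RingHom.FormallyUnramified.stableUnderComposition _ _ h
      (RingHom.FormallyUnramified.of_surjective
        (ConcreteCategory.bijective_of_isIso (inv (U.ι.stalkMap ⟨x, hxU⟩))).2)
  · intro h
    obtain ⟨U, hU, hxU, -⟩ := exists_isAffineOpen_mem_and_subset
      (X := Y) (x := f x) (U := ⊤) trivial
    obtain ⟨V, hV, hxV, hVU⟩ := exists_isAffineOpen_mem_and_subset
      (X := X) (x := x) (U := f ⁻¹ᵁ U) hxU
    letI := (f.appLE U V hVU).hom.toAlgebra
    haveI : Algebra.FiniteType Γ(Y, U) Γ(X, V) :=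
      RingHom.finiteType_algebraMap.mp (f.finiteType_appLE hU hV hVU)
    let p := (hU.primeIdealOf ⟨f x, hxU⟩).asIdeal
    let q := (hV.primeIdealOf ⟨x, hxV⟩).asIdeal
    haveI : q.LiesOver p :=
      ⟨congr($(IsAffineOpen.comap_primeIdealOf_appLE U hU V hV hVU hxV).1).symm⟩
    letI := Localization.AtPrime.algebraOfLiesOver p q
    have h' : Algebra.FormallyUnramified (Localization.AtPrime p) (Localization.AtPrime q) := by
      rw [← RingHom.formallyUnramified_algebraMap]
      exact (RingHom.FormallyUnramified.respectsIso.arrow_mk_iso_iff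
        (IsAffineOpen.arrowStalkMapIso f U hU V hV hVU hxV)).mp h
    haveI : Algebra.IsUnramifiedAt Γ(Y, U) q :=
      Algebra.FormallyUnramified.comp _ (Localization.AtPrime p) _
    obtain ⟨r, hr, hru⟩ :=
      Algebra.exists_formallyUnramified_of_isUnramifiedAt (R := Γ(Y, U)) q
    have key : Nhd @FormallyUnramified (Spec.map (f.appLE U V hVU)) (hV.primeIdealOf ⟨x, hxV⟩) :=
      nhd_of_away (P := @FormallyUnramified) _ _ r hr (by
        rw [show (algebraMap Γ(X, V) (Localization.Away r)).comp (f.appLE U V hVU).hom =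
          algebraMap Γ(Y, U) (Localization.Away r) from rfl]
        exact RingHom.formallyUnramified_algebraMap.mpr hru)
    obtain ⟨W, hW, hWu⟩ := key
    have := nhd_of_openImm (P := @FormallyUnramified) f (W.ι ≫ hV.fromSpec) ⟨_, hW⟩ (by
      rw [Category.assoc, ← IsAffineOpen.SpecMap_appLE_fromSpec f hU hV hVU, ← Category.assoc]
      exact MorphismProperty.comp_mem _ _ _ hWu inferInstance)
    simpa [hV.fromSpec_primeIdealOf] using this

section Ring

variable (A B C : Type u) [CommRing A] [CommRing B] [CommRing C] [IsLocalRing A] [IsLocalRing B]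
  [IsLocalRing C] [Algebra A B] [Algebra B C] [Algebra A C] [IsScalarTower A B C]
  [IsLocalHom (algebraMap A B)] [IsLocalHom (algebraMap B C)] [IsLocalHom (algebraMap A C)]

/-- Being unramified descends along flat local homomorphisms. -/
theorem formallyUnramified_of_flat [Algebra.EssFiniteType A B] [Algebra.EssFiniteType A C]
    [Module.Flat B C] [Algebra.FormallyUnramified A C] : Algebra.FormallyUnramified A B := by
  haveI : Module.FaithfullyFlat B C := Module.FaithfullyFlat.of_flat_of_isLocalHom
  rw [Algebra.FormallyUnramified.iff_map_maximalIdeal_eq]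
  obtain ⟨hsep, hmax⟩ := Algebra.FormallyUnramified.iff_map_maximalIdeal_eq.mp
    (inferInstance : Algebra.FormallyUnramified A C)
  haveI : IsScalarTower (ResidueField A) (ResidueField B) (ResidueField C) :=
    IsScalarTower.of_algebraMap_eq fun a => by
      obtain ⟨a, rfl⟩ := residue_surjective a
      exact congrArg (residue C) (IsScalarTower.algebraMap_apply A B C a)
  refine ⟨Algebra.isSeparable_tower_bot_of_isSeparable (ResidueField A) (ResidueField B)
    (ResidueField C), ?_⟩
  rw [← Ideal.comap_map_eq_self_of_faithfullyFlat (B := C)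
    ((maximalIdeal A).map (algebraMap A B)), Ideal.map_map, ← IsScalarTower.algebraMap_eq, hmax]
  exact ((local_hom_TFAE (algebraMap B C)).out 0 4).mp ‹IsLocalHom (algebraMap B C)›

end Ring

/-- Unramifiedness descends along flatness at a point. -/
theorem nhd_formallyUnramified_of_flat {X Y S : Scheme.{u}} (f : Y ⟶ S) (h : X ⟶ S)
    [LocallyOfFiniteType f] [LocallyOfFiniteType h] (g : X ⟶ Y) (w : g ≫ f = h) (x : X)
    (hg : (g.stalkMap x).hom.Flat) (hh : Nhd @FormallyUnramified h x) :
    Nhd @FormallyUnramified f (g x) := by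
  subst w
  rw [nhd_formallyUnramified_iff_stalkMap] at hh ⊢
  have hC := LocallyOfFiniteType.stalkMap (g ≫ f) x
  have hB := LocallyOfFiniteType.stalkMap f (g x)
  rw [Scheme.Hom.stalkMap_comp] at hh hC
  algebraize [(g.stalkMap x).hom, (f.stalkMap (g x)).hom, (f.stalkMap (g x) ≫ g.stalkMap x).hom]
  haveI : IsScalarTower (S.presheaf.stalk (f (g x))) (Y.presheaf.stalk (g x)) (X.presheaf.stalk x) :=
    IsScalarTower.of_algebraMap_eq fun a => rfl
  haveI : IsLocalHom (algebraMap (Y.presheaf.stalk (g x)) (X.presheaf.stalk x)) :=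
    inferInstanceAs (IsLocalHom (g.stalkMap x).hom)
  haveI : IsLocalHom (algebraMap (S.presheaf.stalk (f (g x))) (Y.presheaf.stalk (g x))) :=
    inferInstanceAs (IsLocalHom (f.stalkMap (g x)).hom)
  haveI : IsLocalHom (algebraMap (S.presheaf.stalk (f (g x))) (X.presheaf.stalk x)) :=
    inferInstanceAs (IsLocalHom ((g.stalkMap x).hom.comp (f.stalkMap (g x)).hom))
  haveI : Module.Flat (Y.presheaf.stalk (g x)) (X.presheaf.stalk x) := hg
  haveI : Algebra.FormallyUnramified (S.presheaf.stalk (f (g x))) (X.presheaf.stalk x) := hh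
  haveI : Algebra.EssFiniteType (S.presheaf.stalk (f (g x))) (X.presheaf.stalk x) := hC
  haveI : Algebra.EssFiniteType (S.presheaf.stalk (f (g x))) (Y.presheaf.stalk (g x)) := hB
  exact RingHom.formallyUnramified_algebraMap.mpr
    (formallyUnramified_of_flat _ _ (X.presheaf.stalk x))

/-- Étaleness descends along flatness at a point. -/
theorem nhd_etale_of_flat {X Y S : Scheme.{u}} (f : Y ⟶ S) (h : X ⟶ S)
    [LocallyOfFinitePresentation f] [LocallyOfFinitePresentation h] (g : X ⟶ Y) (w : g ≫ f = h)
    (x : X) (hg : (g.stalkMap x).hom.Flat) (hh : Nhd @Etale h x) : Nhd @Etale f (g x) := by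
  obtain ⟨h1, h2⟩ := (nhd_etale_iff h x).mp hh
  refine (nhd_etale_iff f (g x)).mpr ⟨nhd_formallyUnramified_of_flat f h g w x hg h1, ?_⟩
  subst w
  exact Groth.L20.flat_stalkMap_of_comp g f x h2 hg

/-- Étale at a point of a morphism to a locally Noetherian scheme. -/
theorem nhd_etale_iff_localRing {X Y : Scheme.{u}} (f : X ⟶ Y) [LocallyOfFiniteType f]
    [IsLocallyNoetherian Y] (x : X) :
    Nhd @Etale f x ↔ ((f.stalkMap x).hom.Flat ∧
      (maximalIdeal (Y.presheaf.stalk (f x))).map (f.stalkMap x).hom =
        maximalIdeal (X.presheaf.stalk x) ∧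
      letI := (f.residueFieldMap x).hom.toAlgebra
      Module.Finite (Y.residueField (f x)) (X.residueField x) ∧
        Algebra.IsSeparable (Y.residueField (f x)) (X.residueField x)) := by
  have hC := LocallyOfFiniteType.stalkMap f x
  rw [nhd_etale_iff, nhd_formallyUnramified_iff_stalkMap, and_comm]
  refine and_congr_right fun _ => ?_
  algebraize [(f.stalkMap x).hom]
  haveI : IsLocalHom (algebraMap (Y.presheaf.stalk (f x)) (X.presheaf.stalk x)) :=
    inferInstanceAs (IsLocalHom (f.stalkMap x).hom)
  haveI : Algebra.EssFiniteType (Y.presheaf.stalk (f x)) (X.presheaf.stalk x) := hC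
  have halg : (f.residueFieldMap x).hom.toAlgebra =
      (inferInstance : Algebra (ResidueField (Y.presheaf.stalk (f x)))
        (ResidueField (X.presheaf.stalk x))) := by
    refine Algebra.algebra_ext _ _ fun a => ?_
    obtain ⟨a, rfl⟩ := residue_surjective a
    rfl
  rw [show (f.stalkMap x).hom.FormallyUnramified ↔ _ from Algebra.FormallyUnramified.iff_map_maximalIdeal_eq]
  constructor
  · rintro ⟨hsep, hmax⟩
    haveI : Algebra.FormallyUnramified (Y.presheaf.stalk (f x)) (X.presheaf.stalk x) :=
      .of_map_maximalIdeal hmax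
    refine ⟨hmax, ?_⟩
    rw [halg]
    haveI : Algebra.EssFiniteType (Y.presheaf.stalk (f x)) (ResidueField (X.presheaf.stalk x)) :=
      Algebra.EssFiniteType.comp _ (X.presheaf.stalk x) _
    haveI : Algebra.EssFiniteType (ResidueField (Y.presheaf.stalk (f x)))
        (ResidueField (X.presheaf.stalk x)) :=
      Algebra.EssFiniteType.of_comp (Y.presheaf.stalk (f x)) _ _
    exact ⟨Algebra.FormallyUnramified.finite_of_free (ResidueField (Y.presheaf.stalk (f x)))
      (ResidueField (X.presheaf.stalk x)), hsep⟩
  · rintro ⟨hmax, -, hsep⟩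
    rw [halg] at hsep
    exact ⟨hsep, hmax⟩

end Groth.L05.Point
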