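import Groth.Agent.L05.Point.FibreMap
import Groth.Agent.L19.Limit.Core
import Groth.Agent.S3042
import Mathlib.AlgebraicGeometry.Morphisms.FlatMono

/-!
# Global fibrewise criteria
-/

set_option autoImplicit false
set_option linter.style.haveILetI false
set_option backward.isDefEq.respectTransparency.types false
set_option backward.isDefEq.respectTransparency false

universe u

open CategoryTheory CategoryTheory.Limits AlgebraicGeometry TopologicalSpace

namespace Groth.L05.Point

theorem nhd_top {P : MorphismProperty Scheme.{u}} [P.RespectsIso] {X Y : Scheme.{u}} {f : X ⟶ Y}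
    (hf : P f) (x : X) : Nhd P f x :=
  nhd_of_openImm (P := P) f (𝟙 X) x (by rwa [Category.id_comp])

theorem of_forall_nhd {P : MorphismProperty Scheme.{u}} [IsZariskiLocalAtSource P] {X Y : Scheme.{u}}
    {f : X ⟶ Y} (h : ∀ x, Nhd P f x) : P f := by
  choose U hx hU using h
  exact (IsZariskiLocalAtSource.iff_of_openCover (P := P) (X.openCoverOfIsOpenCover U
    (.mk (eq_top_iff.mpr fun x _ => Opens.mem_iSup.mpr ⟨x, hx x⟩)))).mpr hU

variable {X Y S : Scheme.{u}} (g : Y ⟶ S) (h : X ⟶ S) (f : X ⟶ Y) (w : f ≫ g = h)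

/-- The two forms of the morphism of fibres. -/
theorem fiberMapOver_iff_snd {P : MorphismProperty Scheme.{u}} [P.RespectsIso] (s : S) :
    P (CohIII.fiberMapOver f h g w s) ↔ P (pullback.snd f (g.fiberι s)) := by
  rw [← (isPullback_fiberMapOver f g h w s).isoPullback_hom_snd, P.cancel_left_of_respectsIso]

include w in
theorem flat_of_fibres_flat [LocallyOfFinitePresentation h] [LocallyOfFiniteType g] [Flat h]
    (hf : ∀ s, Flat (pullback.snd f (g.fiberι s))) : Flat f :=
  (Flat.iff_flat_stalkMap _).mpr fun x => flat_of_fiberMapOver f g h w x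
    ((Flat.iff_flat_stalkMap _).mp ‹_› x) (h.asFiber x) (h.fiberι_asFiber x)
    ((Flat.iff_flat_stalkMap _).mp ((fiberMapOver_iff_snd g h f w (h x)).mpr (hf (h x))) _)

include w in
theorem smooth_iff_fibres [LocallyOfFinitePresentation g] [LocallyOfFinitePresentation h] [Flat h] :
    Smooth f ↔ ∀ s : S, Smooth (pullback.snd f (g.fiberι s)) :=
  ⟨fun hf _ => MorphismProperty.pullback_snd _ _ hf, fun hf => of_forall_nhd (P := @Smooth) fun x =>
    (nhd_smooth_iff f g h w x ((Flat.iff_flat_stalkMap _).mp ‹_› x) (h.asFiber x)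
      (h.fiberι_asFiber x)).mpr (nhd_top ((fiberMapOver_iff_snd g h f w (h x)).mpr (hf (h x))) _)⟩

include w in
theorem etale_iff_fibres [LocallyOfFinitePresentation g] [LocallyOfFinitePresentation h] [Flat h] :
    Etale f ↔ ∀ s : S, Etale (pullback.snd f (g.fiberι s)) :=
  ⟨fun hf _ => MorphismProperty.pullback_snd _ _ hf, fun hf => of_forall_nhd (P := @Etale) fun x =>
    (nhd_etale_iff_fiberMapOver f g h w x ((Flat.iff_flat_stalkMap _).mp ‹_› x) (h.asFiber x)
      (h.fiberι_asFiber x)).mpr (nhd_top ((fiberMapOver_iff_snd g h f w (h x)).mpr (hf (h x))) _)⟩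

include w in
theorem flat_at_of_fibres_smooth [LocallyOfFinitePresentation g] [LocallyOfFinitePresentation h]
    [Flat h] (hf : ∀ s : S, Smooth (pullback.snd f (g.fiberι s))) (x : X) :
    (g.stalkMap (f x)).hom.Flat := by
  haveI := (smooth_iff_fibres g h f w).mpr hf
  refine Groth.L20.flat_stalkMap_of_comp f g x ?_ ((Flat.iff_flat_stalkMap _).mp inferInstance x)
  subst w
  exact (Flat.iff_flat_stalkMap _).mp ‹_› x

include w in
theorem isOpenImmersion_iff_fibres [LocallyOfFinitePresentation g] [LocallyOfFinitePresentation h]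
    [Flat h] : IsOpenImmersion f ↔ ∀ s : S, IsOpenImmersion (pullback.snd f (g.fiberι s)) := by
  refine ⟨fun hf _ => MorphismProperty.pullback_snd _ _ hf, fun hf => ?_⟩
  haveI : LocallyOfFinitePresentation (f ≫ g) := w ▸ inferInstance
  haveI := Groth.L20.locallyOfFinitePresentation_of_comp f g
  haveI := flat_of_fibres_flat g h f w fun s => haveI := hf s; inferInstance
  haveI : Mono f := Groth.Agent.S3042.mono_of_fibres f fun y => by
    let m : Spec (Y.residueField y) ⟶ g.fiber (g y) :=
      pullback.lift (Y.fromSpecResidueField y) (Spec.map (g.residueFieldMap y))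
        (Scheme.Hom.SpecMap_residueFieldMap_fromSpecResidueField g y).symm
    have hm : m ≫ g.fiberι (g y) = Y.fromSpecResidueField y := pullback.lift_fst _ _ _
    haveI := hf (g y)
    have key : MorphismProperty.monomorphisms Scheme (pullback.snd f (m ≫ g.fiberι (g y))) :=
      MorphismProperty.of_isPullback (IsPullback.of_right'
        (IsPullback.of_hasPullback f (m ≫ g.fiberι (g y)))
        (IsPullback.of_hasPullback f (g.fiberι (g y))))
        (inferInstanceAs (Mono (pullback.snd f (g.fiberι (g y)))))
    rw [hm] at key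
    exact key
  exact IsOpenImmersion.of_flat_of_mono f

include w in
theorem isIso_iff_fibres [LocallyOfFinitePresentation g] [LocallyOfFinitePresentation h]
    [Flat h] : IsIso f ↔ ∀ s : S, IsIso (pullback.snd f (g.fiberι s)) := by
  refine ⟨fun _ _ => inferInstance, fun hf => ?_⟩
  haveI := (isOpenImmersion_iff_fibres g h f w).mpr fun s => haveI := hf s; inferInstance
  refine isIso_of_isOpenImmersion_of_opensRange_eq_top f (eq_top_iff.mpr fun y _ => ?_)
  haveI := hf (g y)
  obtain ⟨z, hz⟩ := (asIso (pullback.snd f (g.fiberι (g y)))).hom.homeomorph.surjective (g.asFiber y)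
  refine ⟨pullback.fst f (g.fiberι (g y)) z, ?_⟩
  rw [← Scheme.Hom.comp_apply, pullback.condition, Scheme.Hom.comp_apply,
    show pullback.snd f (g.fiberι (g y)) z = g.asFiber y from hz]
  exact g.fiberι_asFiber y

end Groth.L05.Point
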