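import Groth.Agent.L05.Point.Crit
import Groth.Prelude.Def_ega3
import Groth.Prelude.Def_MoreMor

/-!
# Pointwise criteria on the fibres over a base
-/

set_option autoImplicit false
set_option linter.style.haveILetI false
set_option backward.isDefEq.respectTransparency.types false
set_option backward.isDefEq.respectTransparency false

universe u

open CategoryTheory CategoryTheory.Limits AlgebraicGeometry TopologicalSpace

namespace Groth.L05.Point

variable {X Y S : Scheme.{u}} (f : X ⟶ Y) (g : Y ⟶ S) (h : X ⟶ S) (w : f ≫ g = h)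

/-- The fibre map is a base change of the morphism. -/
theorem isPullback_fiberMapOver (s : S) :
    IsPullback (h.fiberι s) (CohIII.fiberMapOver f h g w s) f (g.fiberι s) := by
  subst w
  refine IsPullback.of_bot (v₂₁ := g.fiberToSpecResidueField s) (v₂₂ := g)
    (h₃₁ := S.fromSpecResidueField s) ?_ (pullback.lift_fst _ _ _).symm
    (IsPullback.of_hasPullback g (S.fromSpecResidueField s))
  rw [show CohIII.fiberMapOver f (f ≫ g) g rfl s ≫ g.fiberToSpecResidueField s =
    (f ≫ g).fiberToSpecResidueField s from (pullback.lift_snd _ _ _).trans (Category.comp_id _)]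
  exact IsPullback.of_hasPullback (f ≫ g) (S.fromSpecResidueField s)

/-- A property at a point of the fibre map holds at the point of the fibre of the morphism. -/
theorem nhd_fiber_of_fiberMapOver {P : MorphismProperty Scheme.{u}} [P.IsStableUnderBaseChange]
    (x : X) (x' : h.fiber (h x)) (hx' : h.fiberι (h x) x' = x)
    (hP : Nhd P (CohIII.fiberMapOver f h g w (h x)) x') :
    Nhd P (f.fiberToSpecResidueField (f x)) (f.asFiber x) := by
  subst w
  let m : Spec (Y.residueField (f x)) ⟶ g.fiber (g (f x)) :=
    pullback.lift (Y.fromSpecResidueField (f x)) (Spec.map (g.residueFieldMap (f x)))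
      (Scheme.Hom.SpecMap_residueFieldMap_fromSpecResidueField g (f x)).symm
  let q : f.fiber (f x) ⟶ (f ≫ g).fiber ((f ≫ g) x) :=
    (isPullback_fiberMapOver f g (f ≫ g) rfl ((f ≫ g) x)).lift (f.fiberι (f x))
      (f.fiberToSpecResidueField (f x) ≫ m) (by
        rw [Category.assoc]
        erw [pullback.lift_fst]
        exact f.fiber_fac (f x))
  have hq : IsPullback q (f.fiberToSpecResidueField (f x))
      (CohIII.fiberMapOver f (f ≫ g) g rfl ((f ≫ g) x)) m := by
    refine IsPullback.of_right ?_ (IsPullback.lift_snd _ _ _ _)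
      (isPullback_fiberMapOver f g (f ≫ g) rfl ((f ≫ g) x))
    erw [IsPullback.lift_fst, pullback.lift_fst]
    exact IsPullback.of_hasPullback f (Y.fromSpecResidueField (f x))
  refine nhd_of_isPullback hq _ ?_
  have e : q (f.asFiber x) = x' := ((f ≫ g).fiberι _).isEmbedding.injective (by
    rw [← Scheme.Hom.comp_apply, hx']
    erw [IsPullback.lift_fst]
    exact f.fiberι_asFiber x)
  exact e ▸ hP

theorem nhd_formallyUnramified_iff [LocallyOfFiniteType f] (x : X) (x' : h.fiber (h x))
    (hx' : h.fiberι (h x) x' = x) :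
    Nhd @FormallyUnramified f x ↔
      Nhd @FormallyUnramified (CohIII.fiberMapOver f h g w (h x)) x' :=
  ⟨fun hP => nhd_of_isPullback (isPullback_fiberMapOver f g h w (h x)) x'
      (by rw [hx']; exact hP),
    fun hP => nhd_formallyUnramified_of_fiber f x (nhd_fiber_of_fiberMapOver f g h w x x' hx' hP)⟩

theorem flat_of_fiberMapOver [LocallyOfFinitePresentation h] [LocallyOfFiniteType g] (x : X)
    (hflat : (h.stalkMap x).hom.Flat) (x' : h.fiber (h x)) (hx' : h.fiberι (h x) x' = x)
    (hf : ((CohIII.fiberMapOver f h g w (h x)).stalkMap x').hom.Flat) :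
    (f.stalkMap x).hom.Flat := by
  subst w
  refine Groth.L20.flat_stalkMap_of_fiberMap f g x hflat ?_
  have e : MoreMor.fiberMap f g (g (f x)) = CohIII.fiberMapOver f (f ≫ g) g rfl ((f ≫ g) x) := by
    apply pullback.hom_ext
    · exact (pullback.lift_fst _ _ _).trans (pullback.lift_fst _ _ _).symm
    · exact (pullback.lift_snd _ _ _).trans
        ((pullback.lift_snd _ _ _).trans (Category.comp_id _)).symm
  have e' : (f ≫ g).asFiber x = x' :=
    ((f ≫ g).fiberι _).isEmbedding.injective (by rw [hx', Scheme.Hom.fiberι_asFiber])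
  rw [e, e']
  exact hf

theorem nhd_smooth_iff [LocallyOfFinitePresentation g] [LocallyOfFinitePresentation h] (x : X)
    (hflat : (h.stalkMap x).hom.Flat) (x' : h.fiber (h x)) (hx' : h.fiberι (h x) x' = x) :
    Nhd @Smooth f x ↔ Nhd @Smooth (CohIII.fiberMapOver f h g w (h x)) x' := by
  haveI : LocallyOfFinitePresentation (f ≫ g) := w ▸ inferInstance
  haveI := Groth.L20.locallyOfFinitePresentation_of_comp f g
  refine ⟨fun hP => nhd_of_isPullback (isPullback_fiberMapOver f g h w (h x)) x'
    (by rw [hx']; exact hP), fun hP => ?_⟩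
  exact nhd_smooth_of_fiber f x (flat_of_fiberMapOver f g h w x hflat x' hx'
    (flat_of_nhd_smooth _ hP)) (nhd_fiber_of_fiberMapOver f g h w x x' hx' hP)

theorem nhd_etale_iff_fiberMapOver [LocallyOfFinitePresentation g] [LocallyOfFinitePresentation h]
    (x : X) (hflat : (h.stalkMap x).hom.Flat) (x' : h.fiber (h x))
    (hx' : h.fiberι (h x) x' = x) :
    Nhd @Etale f x ↔ Nhd @Etale (CohIII.fiberMapOver f h g w (h x)) x' := by
  haveI : LocallyOfFinitePresentation (f ≫ g) := w ▸ inferInstance
  haveI := Groth.L20.locallyOfFinitePresentation_of_comp f g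
  refine ⟨fun hP => nhd_of_isPullback (isPullback_fiberMapOver f g h w (h x)) x'
    (by rw [hx']; exact hP), fun ⟨U, hx, hU⟩ => ?_⟩
  exact (nhd_etale_iff f x).mpr ⟨(nhd_formallyUnramified_iff f g h w x x' hx').mpr
    ⟨U, hx, inferInstance⟩, flat_of_fiberMapOver f g h w x hflat x' hx'
    (flat_of_nhd _ ⟨U, hx, inferInstance⟩)⟩

end Groth.L05.Point
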