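import Groth.Agent.L05.Point.Crit
import Groth.Agent.L24.Boot.EtaleAt
import Mathlib.RingTheory.Smooth.Locus
import Mathlib.RingTheory.Flat.FaithfullyFlat.Algebra
import Mathlib.RingTheory.Spectrum.Prime.FreeLocus

/-!
# Smoothness at a point descends along flat base change
-/

set_option autoImplicit false
set_option linter.style.haveILetI false
set_option backward.isDefEq.respectTransparency false
set_option backward.isDefEq.respectTransparency.types false

universe u

open CategoryTheory CategoryTheory.Limits AlgebraicGeometry TensorProduct TopologicalSpace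

noncomputable section

namespace Groth.L05.Point

section Ring

attribute [local instance] Algebra.TensorProduct.rightAlgebra

variable {P P' C : Type u} [CommRing P] [CommRing P'] [CommRing C] [Algebra P P'] [Algebra P C]
  [Module.Flat P P']

/-- A flat base change of an algebra smooth at a prime was smooth at the image prime. -/
theorem isSmoothAt_of_baseChange [Algebra.FinitePresentation P C] (z : PrimeSpectrum (P' ⊗[P] C))
    (h : z ∈ Algebra.smoothLocus P' (P' ⊗[P] C)) :
    PrimeSpectrum.comap (Algebra.TensorProduct.includeRight : C →ₐ[P] P' ⊗[P] C).toRingHom z ∈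
      Algebra.smoothLocus P C := by
  rw [Algebra.smoothLocus_eq_compl_support_inter] at h ⊢
  refine ⟨Module.notMem_support_iff'.2 fun m => ?_, ?_⟩
  · let e := Algebra.tensorH1CotangentOfFlat P C P'
    refine Groth.L24.Boot.exists_annihilator_notMem e.toLinearMap.toAddMonoidHom e.injective ?_
      z.asIdeal (Module.notMem_support_iff'.1 h.1) m
    intro t c m
    show e (t ⊗ₜ (c • m)) = (t ⊗ₜ[P] c) • e (1 ⊗ₜ m)
    rw [Algebra.tensorH1CotangentOfFlat_tmul, Algebra.tensorH1CotangentOfFlat_tmul, one_smul,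
      map_smul, ← algebraMap_smul (P' ⊗[P] C) t, ← algebraMap_smul (P' ⊗[P] C) c, smul_smul]
    congr 1
    simp [Algebra.TensorProduct.algebraMap_apply, Algebra.TensorProduct.right_algebraMap_apply]
  · let B := P' ⊗[P] C
    let q : PrimeSpectrum C :=
      PrimeSpectrum.comap (Algebra.TensorProduct.includeRight : C →ₐ[P] B).toRingHom z
    haveI : z.asIdeal.LiesOver q.asIdeal := ⟨rfl⟩
    letI := Localization.AtPrime.algebraOfLiesOver q.asIdeal z.asIdeal
    let Cq := Localization.AtPrime q.asIdeal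
    let Bz := Localization.AtPrime z.asIdeal
    haveI : IsScalarTower C Cq Bz := IsScalarTower.of_algebraMap_eq fun c => by
      rw [Localization.AtPrime.IsLiesOverAlgebra.algebraMap_eq, Localization.localRingHom_to_map]
      exact IsScalarTower.algebraMap_apply C B Bz c
    haveI : Algebra.IsPushout P C P' B := .symm inferInstance
    haveI : Module.Flat C B :=
      Module.Flat.of_linearEquiv (Algebra.IsPushout.equiv P C P' B).toLinearEquiv.symm
    haveI : Module.Flat C Bz := Module.Flat.trans C B Bz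
    haveI : Module.Flat Cq Bz :=
      (Module.flat_iff_of_isLocalization Cq q.asIdeal.primeCompl Bz).mpr inferInstance
    haveI : IsLocalHom (algebraMap Cq Bz) := by
      rw [Localization.AtPrime.IsLiesOverAlgebra.algebraMap_eq]
      exact Localization.isLocalHom_localRingHom _ _ _ _
    haveI : Module.FaithfullyFlat Cq Bz := Module.FaithfullyFlat.of_flat_of_isLocalHom
    haveI : Algebra.IsPushout P P' C B := inferInstance
    haveI : Module.Free Bz (Bz ⊗[B] Ω[B⁄P']) :=
      (Module.mem_freeLocus_iff_tensor z Bz).mp h.2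
    haveI : Module.Flat Bz (Bz ⊗[Cq] (Cq ⊗[C] Ω[C⁄P])) := by
      refine Module.Flat.of_linearEquiv (N := Bz ⊗[Cq] (Cq ⊗[C] Ω[C⁄P])) ?_ (M := Bz ⊗[B] Ω[B⁄P'])
      exact AlgebraTensorModule.cancelBaseChange C Cq Bz Bz Ω[C⁄P] ≪≫ₗ
        (AlgebraTensorModule.cancelBaseChange C B Bz Bz Ω[C⁄P]).symm ≪≫ₗ
        AlgebraTensorModule.congr (LinearEquiv.refl Bz Bz)
          (KaehlerDifferential.tensorKaehlerEquiv P P' C B)
    haveI : Module.Flat Cq (Cq ⊗[C] Ω[C⁄P]) := Module.Flat.of_flat_tensorProduct _ _ Bz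
    exact (Module.mem_freeLocus_iff_tensor q Cq).mpr Module.free_of_flat_of_isLocalRing

end Ring

variable {X Y X' Y' : Scheme.{u}}

/-- Smoothness at a point descends along flat base change. -/
theorem nhd_smooth_of_isPullback {q : X' ⟶ X} {φ' : X' ⟶ Y'} {φ : X ⟶ Y} {g : Y' ⟶ Y}
    (sq : IsPullback q φ' φ g) [Flat g] [LocallyOfFinitePresentation φ] {z : X'}
    (h : Nhd @Smooth φ' z) : Nhd @Smooth φ (q z) := by
  obtain ⟨_, ⟨U, hU, rfl⟩, hzU, -⟩ := Y.isBasis_affineOpens.exists_subset_of_mem_open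
    (Set.mem_univ (φ (q z))) isOpen_univ
  have hzU' : φ' z ∈ g ⁻¹ᵁ U := by
    show g (φ' z) ∈ U
    rw [← Scheme.Hom.comp_apply, ← sq.w, Scheme.Hom.comp_apply]
    exact hzU
  obtain ⟨_, ⟨U', hU', rfl⟩, hzU'', hUU : U' ≤ g ⁻¹ᵁ U⟩ :=
    Y'.isBasis_affineOpens.exists_subset_of_mem_open hzU' (g ⁻¹ᵁ U).2
  obtain ⟨_, ⟨V, hV, rfl⟩, hzV, hVU : V ≤ φ ⁻¹ᵁ U⟩ :=
    X.isBasis_affineOpens.exists_subset_of_mem_open (show q z ∈ φ ⁻¹ᵁ U from hzU) (φ ⁻¹ᵁ U).2
  have hflat : (g.appLE U U' hUU).hom.Flat := HasRingHomProperty.appLE @Flat g inferInstance ⟨U, hU⟩ ⟨U', hU'⟩ hUU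
  have hfp : (φ.appLE U V hVU).hom.FinitePresentation :=
    HasRingHomProperty.appLE @LocallyOfFinitePresentation φ inferInstance ⟨U, hU⟩ ⟨V, hV⟩ hVU
  algebraize [(φ.appLE U V hVU).hom, (g.appLE U U' hUU).hom]
  let j : Spec (.of (Γ(Y', U') ⊗[Γ(Y, U)] Γ(X, V))) ⟶ X' :=
    (pullbackSpecIso Γ(Y, U) Γ(Y', U') Γ(X, V)).inv ≫ (pullbackSymmetry _ _).hom ≫
      pullback.map (Spec.map (φ.appLE U V hVU)) (Spec.map (g.appLE U U' hUU)) φ g hV.fromSpec
        hU'.fromSpec hU.fromSpec (IsAffineOpen.SpecMap_appLE_fromSpec ..) (IsAffineOpen.SpecMap_appLE_fromSpec ..) ≫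
      sq.isoPullback.inv
  have hjq : j ≫ q = Spec.map (CommRingCat.ofHom
      (Algebra.TensorProduct.includeRight : Γ(X, V) →ₐ[Γ(Y, U)] Γ(Y', U') ⊗[Γ(Y, U)] Γ(X, V)).toRingHom) ≫
      hV.fromSpec := by
    simp only [j, Category.assoc, IsPullback.isoPullback_inv_fst, pullback.lift_fst]
    erw [pullbackSymmetry_hom_comp_fst_assoc, pullbackSpecIso_inv_snd_assoc]
    rfl
  have hjφ : j ≫ φ' = Spec.map (CommRingCat.ofHom (algebraMap Γ(Y', U') (Γ(Y', U') ⊗[Γ(Y, U)] Γ(X, V)))) ≫
      hU'.fromSpec := by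
    simp only [j, Category.assoc, IsPullback.isoPullback_inv_snd, pullback.lift_snd]
    erw [pullbackSymmetry_hom_comp_snd_assoc, pullbackSpecIso_inv_fst_assoc]
    rfl
  obtain ⟨w, rfl⟩ : z ∈ Set.range j := by
    have hr : sq.isoPullback.hom z ∈ Set.range (pullback.map (Spec.map (φ.appLE U V hVU))
        (Spec.map (g.appLE U U' hUU)) φ g hV.fromSpec hU'.fromSpec hU.fromSpec
        (IsAffineOpen.SpecMap_appLE_fromSpec ..) (IsAffineOpen.SpecMap_appLE_fromSpec ..)) := by
      rw [Scheme.Pullback.range_map, Set.mem_inter_iff, Set.mem_preimage, Set.mem_preimage,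
        ← Scheme.Hom.comp_apply, ← Scheme.Hom.comp_apply, sq.isoPullback_hom_fst, sq.isoPullback_hom_snd,
        hV.range_fromSpec, hU'.range_fromSpec]
      exact ⟨hzV, hzU''⟩
    obtain ⟨p, hp⟩ := hr
    obtain ⟨p₀, rfl⟩ := ((pullbackSpecIso Γ(Y, U) Γ(Y', U') Γ(X, V)).inv ≫
      (pullbackSymmetry _ _).hom).surjective p
    refine ⟨p₀, sq.isoPullback.hom.isOpenEmbedding.injective ?_⟩
    rw [← Scheme.Hom.comp_apply, ← hp]
    simp only [j, Category.assoc, Iso.inv_hom_id, Category.comp_id]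
    rfl
  haveI : IsOpenImmersion j := by unfold j; infer_instance
  obtain ⟨W, hwW, hW⟩ := nhd_openImm_comp φ' j w h
  obtain ⟨_, ⟨_, ⟨f, rfl⟩, rfl⟩, hwf, hf⟩ :=
    PrimeSpectrum.isBasis_basic_opens.exists_subset_of_mem_open
      (show w ∈ (W : Set _) from hwW) W.2
  let ι := Spec.map (CommRingCat.ofHom
    (algebraMap (Γ(Y', U') ⊗[Γ(Y, U)] Γ(X, V)) (Localization.Away f)))
  haveI : IsOpenImmersion ι := IsOpenImmersion.of_isLocalization f
  have hr : Set.range ι ⊆ Set.range W.ι := by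
    rw [Scheme.Opens.range_ι]
    rintro _ ⟨p, rfl⟩
    refine hf ?_
    rw [← PrimeSpectrum.localization_away_comap_range (Localization.Away f) f]
    exact ⟨p, rfl⟩
  have hl := IsOpenImmersion.lift_fac W.ι ι hr
  haveI : IsOpenImmersion (IsOpenImmersion.lift W.ι ι hr ≫ W.ι) := by rw [hl]; infer_instance
  haveI : IsOpenImmersion (IsOpenImmersion.lift W.ι ι hr) := IsOpenImmersion.of_comp _ W.ι
  have hι : Smooth (ι ≫ j ≫ φ') := by
    rw [← hl, Category.assoc]
    exact IsZariskiLocalAtSource.comp hW _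
  have hFE : Algebra.Smooth Γ(Y', U') (Localization.Away f) := by
    rw [hjφ, ← Category.assoc, ← Spec.map_comp, ← CommRingCat.ofHom_comp,
      ← IsScalarTower.algebraMap_eq] at hι
    have := MorphismProperty.of_isPullback (P := @Smooth) (isPullback_of_mono _ hU'.fromSpec) hι
    exact RingHom.smooth_algebraMap.1 (HasRingHomProperty.Spec_iff.1 this)
  have hp := isSmoothAt_of_baseChange w
    (Algebra.basicOpen_subset_smoothLocus_iff_smooth.2 inferInstance hwf)
  let x₀ := PrimeSpectrum.comap (Algebra.TensorProduct.includeRight :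
      Γ(X, V) →ₐ[Γ(Y, U)] Γ(Y', U') ⊗[Γ(Y, U)] Γ(X, V)).toRingHom w
  have : Algebra.IsSmoothAt Γ(Y, U) x₀.asIdeal := hp
  obtain ⟨r, hr₁, hru⟩ := Algebra.IsSmoothAt.exists_notMem_smooth Γ(Y, U) x₀.asIdeal
  obtain ⟨W₁, hW₁, hWu⟩ : Nhd @Smooth (Spec.map (φ.appLE U V hVU)) x₀ :=
    nhd_of_away (P := @Smooth) _ _ r hr₁ (RingHom.smooth_algebraMap.mpr hru)
  have := nhd_of_openImm (P := @Smooth) φ (W₁.ι ≫ hV.fromSpec) ⟨_, hW₁⟩ (by
    rw [Category.assoc, ← IsAffineOpen.SpecMap_appLE_fromSpec φ hU hV hVU, ← Category.assoc]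
    exact MorphismProperty.comp_mem _ _ _ hWu inferInstance)
  have e : q (j w) = hV.fromSpec x₀ := by
    rw [← Scheme.Hom.comp_apply, hjq]
    rfl
  rw [e]
  exact this

/-- The morphism out of the local ring is flat when the stalk map is flat. -/
theorem flat_fromSpecStalk_comp {X Y : Scheme.{u}} (g : X ⟶ Y) (x : X)
    (hg : (g.stalkMap x).hom.Flat) : Flat (X.fromSpecStalk x ≫ g) := by
  rw [← Scheme.SpecMap_stalkMap_fromSpecStalk]
  obtain ⟨U, hU, hxU, -⟩ := exists_isAffineOpen_mem_and_subset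
    (X := Y) (x := g x) (U := ⊤) trivial
  haveI : Flat (Spec.map (g.stalkMap x)) := (HasRingHomProperty.Spec_iff (P := @Flat)).mpr hg
  haveI : Flat (Y.fromSpecStalk (g x)) := by
    rw [← hU.fromSpecStalk_eq_fromSpecStalk hxU, IsAffineOpen.fromSpecStalk]
    haveI : Flat (Spec.map (Y.presheaf.germ U (g x) hxU)) := by
      refine (HasRingHomProperty.Spec_iff (P := @Flat)).mpr ?_
      letI := Y.presheaf.algebra_section_stalk ⟨g x, hxU⟩
      haveI := hU.isLocalization_stalk ⟨g x, hxU⟩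
      exact RingHom.flat_algebraMap_iff.mpr
        (IsLocalization.flat _ (hU.primeIdealOf ⟨g x, hxU⟩).asIdeal.primeCompl)
    infer_instance
  infer_instance

/-- A property descending along flat base change descends along base change flat at the point. -/
theorem nhd_of_baseChange_flat_at {Q : MorphismProperty Scheme.{u}} [Q.IsStableUnderBaseChange]
    (hQ : ∀ {X Y X' Y' : Scheme.{u}} {q : X' ⟶ X} {φ' : X' ⟶ Y'} {φ : X ⟶ Y} {g : Y' ⟶ Y}
      (_ : IsPullback q φ' φ g) [Flat g] [LocallyOfFinitePresentation φ] {z : X'},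
      Nhd Q φ' z → Nhd Q φ (q z))
    {X Y Y' : Scheme.{u}} (f : X ⟶ Y) [LocallyOfFinitePresentation f] (g : Y' ⟶ Y)
    (x' : ↑(pullback f g)) (hg : (g.stalkMap (pullback.snd f g x')).hom.Flat)
    (h : Nhd Q (pullback.snd f g) x') : Nhd Q f (pullback.fst f g x') := by
  let y' := pullback.snd f g x'
  haveI := flat_fromSpecStalk_comp g y' hg
  have sq := (IsPullback.of_hasPullback (pullback.snd f g) (Y'.fromSpecStalk y')).paste_horiz
    (IsPullback.of_hasPullback f g)
  obtain ⟨z, hz, -⟩ := Scheme.Pullback.exists_preimage_pullback (f := pullback.snd f g)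
    (g := Y'.fromSpecStalk y') x' (IsLocalRing.closedPoint (Y'.presheaf.stalk y'))
    Scheme.fromSpecStalk_closedPoint.symm
  have := hQ sq (z := z) (nhd_of_isPullback (IsPullback.of_hasPullback _ _) z (by rw [hz]; exact h))
  rwa [Scheme.Hom.comp_apply, hz] at this

theorem nhd_etale_iff_mem_etaleSet (f : X ⟶ Y) (x : X) :
    Nhd @Etale f x ↔ x ∈ Groth.L24.Boot.etaleSet f :=
  ⟨fun ⟨_, hx, hU⟩ => Groth.L24.Boot.le_etaleSet hU hx,
    fun h => ⟨_, h, Groth.L24.Boot.etale_etaleSet f⟩⟩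

end Groth.L05.Point
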