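import Groth.Agent.L05.Point.Crit
import Groth.Agent.L05.Point.BaseChange
import Mathlib.RingTheory.Unramified.Locus

/-!
# Being unramified at a point descends along base change
-/

set_option autoImplicit false
set_option linter.style.haveILetI false
set_option backward.isDefEq.respectTransparency false
set_option backward.isDefEq.respectTransparency.types false

universe u

open CategoryTheory CategoryTheory.Limits AlgebraicGeometry TensorProduct TopologicalSpace

noncomputable section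

namespace Groth.L05.Point

section Ring

attribute [local instance] Algebra.TensorProduct.rightAlgebra

variable {P P' C : Type u} [CommRing P] [CommRing P'] [CommRing C] [Algebra P P'] [Algebra P C]

/-- An algebra is unramified at the image of a prime where its base change is. -/
theorem isUnramifiedAt_of_baseChange [Algebra.EssFiniteType P C] (z : PrimeSpectrum (P' ⊗[P] C))
    (h : z ∈ Algebra.unramifiedLocus P' (P' ⊗[P] C)) :
    PrimeSpectrum.comap (Algebra.TensorProduct.includeRight : C →ₐ[P] P' ⊗[P] C).toRingHom z ∈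
      Algebra.unramifiedLocus P C := by
  let B := P' ⊗[P] C
  let q : PrimeSpectrum C :=
    PrimeSpectrum.comap (Algebra.TensorProduct.includeRight : C →ₐ[P] B).toRingHom z
  haveI : z.asIdeal.LiesOver q.asIdeal := ⟨rfl⟩
  rw [Algebra.unramifiedLocus_eq_compl_support, Set.mem_compl_iff,
    Module.mem_support_iff_nontrivial_residueField_tensorProduct, not_nontrivial_iff_subsingleton]
    at h ⊢
  let gz := Ideal.ResidueField.mapₐ q.asIdeal z.asIdeal (Algebra.ofId C B) rfl
  letI : Algebra q.asIdeal.ResidueField z.asIdeal.ResidueField := gz.toRingHom.toAlgebra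
  haveI : IsScalarTower C q.asIdeal.ResidueField z.asIdeal.ResidueField :=
    IsScalarTower.of_algebraMap_eq fun c => (gz.commutes c).symm
  haveI : Algebra.IsPushout P P' C B := inferInstance
  haveI h2 : Subsingleton (z.asIdeal.ResidueField ⊗[q.asIdeal.ResidueField]
      (q.asIdeal.ResidueField ⊗[C] Ω[C⁄P])) :=
    ((AlgebraTensorModule.cancelBaseChange C q.asIdeal.ResidueField z.asIdeal.ResidueField
        z.asIdeal.ResidueField Ω[C⁄P]) ≪≫ₗ
      (AlgebraTensorModule.cancelBaseChange C B z.asIdeal.ResidueField z.asIdeal.ResidueField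
        Ω[C⁄P]).symm ≪≫ₗ
      AlgebraTensorModule.congr (LinearEquiv.refl z.asIdeal.ResidueField z.asIdeal.ResidueField)
        (KaehlerDifferential.tensorKaehlerEquiv P P' C B)).toEquiv.subsingleton
  haveI : Module.Free q.asIdeal.ResidueField z.asIdeal.ResidueField := Module.Free.of_divisionRing _ _
  haveI : Module.FaithfullyFlat q.asIdeal.ResidueField z.asIdeal.ResidueField :=
    Module.FaithfullyFlat.of_linearEquiv _ _ (Module.Free.chooseBasis q.asIdeal.ResidueField z.asIdeal.ResidueField).repr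
  exact (Module.FaithfullyFlat.subsingleton_tensorProduct_iff_right q.asIdeal.ResidueField z.asIdeal.ResidueField).mp h2

end Ring

variable {X Y X' Y' : Scheme.{u}}

/-- Being unramified at a point descends along any base change. -/
theorem nhd_formallyUnramified_of_isPullback {q : X' ⟶ X} {φ' : X' ⟶ Y'} {φ : X ⟶ Y} {g : Y' ⟶ Y}
    (sq : IsPullback q φ' φ g) [LocallyOfFiniteType φ] {z : X'}
    (h : Nhd @FormallyUnramified φ' z) : Nhd @FormallyUnramified φ (q z) := by
  obtain ⟨_, ⟨U, hU, rfl⟩, hzU, -⟩ := Y.isBasis_affineOpens.exists_subset_of_mem_open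
    (Set.mem_univ (φ (q z))) isOpen_univ
  have hzU' : φ' z ∈ g ⁻¹ᵁ U := by
    show g (φ' z) ∈ U
    rw [← Scheme.Hom.comp_apply, ← sq.w, Scheme.Hom.comp_apply]
    exact hzU
  obtain ⟨_, ⟨U', hU', rfl⟩, hzU'', hUU : U' ≤ g ⁻¹ᵁ U⟩ :=
    Y'.isBasis_affineOpens.exists_subset_of_mem_open hzU' (g ⁻¹ᵁ U).2
  obtain ⟨_, ⟨V, hV, rfl⟩, hzV, hVU : V ≤ φ ⁻¹ᵁ U⟩ :=
    X.isBasis_affineOpens.exists_subset_of_mem_open (show q z ∈ φ ⁻¹ᵁ U from hzU) (φ ⁻¹ᵁ U).2
  have hfp : (φ.appLE U V hVU).hom.FiniteType :=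
    HasRingHomProperty.appLE @LocallyOfFiniteType φ inferInstance ⟨U, hU⟩ ⟨V, hV⟩ hVU
  algebraize [(φ.appLE U V hVU).hom, (g.appLE U U' hUU).hom]
  let j : Spec (.of (Γ(Y', U') ⊗[Γ(Y, U)] Γ(X, V))) ⟶ X' :=
    (pullbackSpecIso Γ(Y, U) Γ(Y', U') Γ(X, V)).inv ≫ (pullbackSymmetry _ _).hom ≫
      pullback.map (Spec.map (φ.appLE U V hVU)) (Spec.map (g.appLE U U' hUU)) φ g hV.fromSpec
        hU'.fromSpec hU.fromSpec (IsAffineOpen.SpecMap_appLE_fromSpec ..) (IsAffineOpen.SpecMap_appLE_fromSpec ..) ≫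
      sq.isoPullback.inv
  have hjq : j ≫ q = Spec.map (CommRingCat.ofHom
      (Algebra.TensorProduct.includeRight : Γ(X, V) →ₐ[Γ(Y, U)] Γ(Y', U') ⊗[Γ(Y, U)] Γ(X, V)).toRingHom) ≫
      hV.fromSpec := by
    simp only [j, Category.assoc, IsPullback.isoPullback_inv_fst, pullback.lift_fst]
    erw [pullbackSymmetry_hom_comp_fst_assoc, pullbackSpecIso_inv_snd_assoc]
    rfl
  have hjφ : j ≫ φ' = Spec.map (CommRingCat.ofHom (algebraMap Γ(Y', U') (Γ(Y', U') ⊗[Γ(Y, U)] Γ(X, V)))) ≫
      hU'.fromSpec := by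
    simp only [j, Category.assoc, IsPullback.isoPullback_inv_snd, pullback.lift_snd]
    erw [pullbackSymmetry_hom_comp_snd_assoc, pullbackSpecIso_inv_fst_assoc]
    rfl
  obtain ⟨w, rfl⟩ : z ∈ Set.range j := by
    have hr : sq.isoPullback.hom z ∈ Set.range (pullback.map (Spec.map (φ.appLE U V hVU))
        (Spec.map (g.appLE U U' hUU)) φ g hV.fromSpec hU'.fromSpec hU.fromSpec
        (IsAffineOpen.SpecMap_appLE_fromSpec ..) (IsAffineOpen.SpecMap_appLE_fromSpec ..)) := by
      rw [Scheme.Pullback.range_map, Set.mem_inter_iff, Set.mem_preimage, Set.mem_preimage,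
        ← Scheme.Hom.comp_apply, ← Scheme.Hom.comp_apply, sq.isoPullback_hom_fst, sq.isoPullback_hom_snd,
        hV.range_fromSpec, hU'.range_fromSpec]
      exact ⟨hzV, hzU''⟩
    obtain ⟨p, hp⟩ := hr
    obtain ⟨p₀, rfl⟩ := ((pullbackSpecIso Γ(Y, U) Γ(Y', U') Γ(X, V)).inv ≫
      (pullbackSymmetry _ _).hom).surjective p
    refine ⟨p₀, sq.isoPullback.hom.isOpenEmbedding.injective ?_⟩
    rw [← Scheme.Hom.comp_apply, ← hp]
    simp only [j, Category.assoc, Iso.inv_hom_id, Category.comp_id]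
    rfl
  haveI : IsOpenImmersion j := by unfold j; infer_instance
  obtain ⟨W, hwW, hW⟩ := nhd_openImm_comp φ' j w h
  obtain ⟨_, ⟨_, ⟨f, rfl⟩, rfl⟩, hwf, hf⟩ :=
    PrimeSpectrum.isBasis_basic_opens.exists_subset_of_mem_open
      (show w ∈ (W : Set _) from hwW) W.2
  let ι := Spec.map (CommRingCat.ofHom
    (algebraMap (Γ(Y', U') ⊗[Γ(Y, U)] Γ(X, V)) (Localization.Away f)))
  haveI : IsOpenImmersion ι := IsOpenImmersion.of_isLocalization f
  have hr : Set.range ι ⊆ Set.range W.ι := by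
    rw [Scheme.Opens.range_ι]
    rintro _ ⟨p, rfl⟩
    refine hf ?_
    rw [← PrimeSpectrum.localization_away_comap_range (Localization.Away f) f]
    exact ⟨p, rfl⟩
  have hl := IsOpenImmersion.lift_fac W.ι ι hr
  haveI : IsOpenImmersion (IsOpenImmersion.lift W.ι ι hr ≫ W.ι) := by rw [hl]; infer_instance
  haveI : IsOpenImmersion (IsOpenImmersion.lift W.ι ι hr) := IsOpenImmersion.of_comp _ W.ι
  have hι : FormallyUnramified (ι ≫ j ≫ φ') := by
    rw [← hl, Category.assoc]
    exact IsZariskiLocalAtSource.comp hW _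
  have hFE : Algebra.FormallyUnramified Γ(Y', U') (Localization.Away f) := by
    rw [hjφ, ← Category.assoc, ← Spec.map_comp, ← CommRingCat.ofHom_comp,
      ← IsScalarTower.algebraMap_eq] at hι
    have := MorphismProperty.of_isPullback (P := @FormallyUnramified) (isPullback_of_mono _ hU'.fromSpec) hι
    exact RingHom.formallyUnramified_algebraMap.1 (HasRingHomProperty.Spec_iff.1 this)
  have hp := isUnramifiedAt_of_baseChange w
    (Algebra.basicOpen_subset_unramifiedLocus_iff.2 inferInstance hwf)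
  let x₀ := PrimeSpectrum.comap (Algebra.TensorProduct.includeRight :
      Γ(X, V) →ₐ[Γ(Y, U)] Γ(Y', U') ⊗[Γ(Y, U)] Γ(X, V)).toRingHom w
  have : Algebra.IsUnramifiedAt Γ(Y, U) x₀.asIdeal := hp
  obtain ⟨r, hr₁, hru⟩ := Algebra.exists_formallyUnramified_of_isUnramifiedAt (R := Γ(Y, U)) x₀.asIdeal
  obtain ⟨W₁, hW₁, hWu⟩ : Nhd @FormallyUnramified (Spec.map (φ.appLE U V hVU)) x₀ :=
    nhd_of_away (P := @FormallyUnramified) _ _ r hr₁ (RingHom.formallyUnramified_algebraMap.mpr hru)
  have := nhd_of_openImm (P := @FormallyUnramified) φ (W₁.ι ≫ hV.fromSpec) ⟨_, hW₁⟩ (by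
    rw [Category.assoc, ← IsAffineOpen.SpecMap_appLE_fromSpec φ hU hV hVU, ← Category.assoc]
    exact MorphismProperty.comp_mem _ _ _ hWu inferInstance)
  have e : q (j w) = hV.fromSpec x₀ := by
    rw [← Scheme.Hom.comp_apply, hjq]
    rfl
  rw [e]
  exact this

end Groth.L05.Point
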