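import Groth.Agent.L20.FibreScheme
import Mathlib.AlgebraicGeometry.Morphisms.Etale
import Mathlib.AlgebraicGeometry.Morphisms.Smooth
import Mathlib.AlgebraicGeometry.Morphisms.FormallyUnramified
import Mathlib.AlgebraicGeometry.Fiber
import Mathlib.RingTheory.Smooth.Fiber
import Mathlib.RingTheory.Unramified.Locus
import Mathlib.RingTheory.Kaehler.TensorProduct
import Mathlib.RingTheory.LocalRing.ResidueField.Fiber

/-!
# Pointwise criteria for smooth, étale and unramified morphisms
-/

set_option autoImplicit false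
set_option linter.style.haveILetI false
set_option backward.isDefEq.respectTransparency.types false
set_option backward.isDefEq.respectTransparency false

universe u

open CategoryTheory CategoryTheory.Limits AlgebraicGeometry TensorProduct TopologicalSpace

attribute [local instance] Algebra.TensorProduct.rightAlgebra

namespace Groth.L05.Point

/-- `f` has the property `P` near `x`. -/
abbrev Nhd (P : MorphismProperty Scheme.{u}) {X Y : Scheme.{u}} (f : X ⟶ Y) (x : X) : Prop :=
  ∃ U : X.Opens, x ∈ U ∧ P (U.ι ≫ f)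

section Generic

variable {P : MorphismProperty Scheme.{u}}

theorem nhd_of_openImm [P.RespectsIso] {X Y U : Scheme.{u}} (f : X ⟶ Y) (j : U ⟶ X)
    [IsOpenImmersion j] (u : U) (h : P (j ≫ f)) : Nhd P f (j u) := by
  refine ⟨j.opensRange, ⟨u, rfl⟩, ?_⟩
  have e : j.isoOpensRange.inv ≫ j = j.opensRange.ι := Scheme.Hom.isoOpensRange_inv_comp j
  rw [← e, Category.assoc, P.cancel_left_of_respectsIso]
  exact h

theorem nhd_mono [IsZariskiLocalAtSource P] {X Y : Scheme.{u}} {f : X ⟶ Y} {x : X}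
    (h : Nhd P f x) {V : X.Opens} (hx : x ∈ V) : ∃ W : X.Opens, x ∈ W ∧ W ≤ V ∧ P (W.ι ≫ f) := by
  obtain ⟨U, hxU, hU⟩ := h
  refine ⟨U ⊓ V, ⟨hxU, hx⟩, inf_le_right, ?_⟩
  rw [← Scheme.homOfLE_ι X (inf_le_left : U ⊓ V ≤ U), Category.assoc]
  exact IsZariskiLocalAtSource.comp hU _

theorem nhd_of_isPullback [P.IsStableUnderBaseChange] {X Y X' Y' : Scheme.{u}} {f : X ⟶ Y}
    {f' : X' ⟶ Y'} {g : Y' ⟶ Y} {q : X' ⟶ X} (h : IsPullback q f' f g) (z : X')
    (hz : Nhd P f (q z)) : Nhd P f' z := by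
  obtain ⟨U, hzU, hU⟩ := hz
  exact ⟨q ⁻¹ᵁ U, hzU,
    MorphismProperty.of_isPullback ((isPullback_morphismRestrict q U).paste_vert h) hU⟩

theorem nhd_openImm_comp [IsZariskiLocalAtSource P] {X Y U : Scheme.{u}} (f : X ⟶ Y) (j : U ⟶ X)
    [IsOpenImmersion j] (u : U) (h : Nhd P f (j u)) : Nhd P (j ≫ f) u := by
  obtain ⟨W, hW, hP⟩ := h
  refine ⟨j ⁻¹ᵁ W, hW, ?_⟩
  rw [← Category.assoc, ← morphismRestrict_ι, Category.assoc]
  exact IsZariskiLocalAtSource.comp hP _

theorem isPullback_of_mono {U V Y : Scheme.{u}} (g : U ⟶ V) (ι : V ⟶ Y) [Mono ι] :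
    IsPullback (𝟙 U) g (g ≫ ι) ι :=
  ⟨⟨Category.id_comp _⟩, ⟨PullbackCone.IsLimit.mk _ (fun s => s.fst) (fun s => Category.comp_id _)
    (fun s => by rw [← cancel_mono ι, Category.assoc, s.condition])
    (fun s t h1 _ => by simpa using h1)⟩⟩

end Generic

theorem flat_of_openImm {X Y U : Scheme.{u}} (f : X ⟶ Y) (j : U ⟶ X) [IsOpenImmersion j] (u : U)
    (h : ((j ≫ f).stalkMap u).hom.Flat) : (f.stalkMap (j u)).hom.Flat := by
  rw [Scheme.Hom.stalkMap_comp] at h
  have e : f.stalkMap (j u) = (f.stalkMap (j u) ≫ j.stalkMap u) ≫ inv (j.stalkMap u) := by simp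
  rw [e]
  exact RingHom.Flat.comp h
    (RingHom.Flat.of_bijective (ConcreteCategory.bijective_of_isIso (inv (j.stalkMap u))))

theorem flat_of_nhd {X Y : Scheme.{u}} (f : X ⟶ Y) {x : X} (h : Nhd @Flat f x) :
    (f.stalkMap x).hom.Flat := by
  obtain ⟨U, hxU, hU⟩ := h
  exact flat_of_openImm f U.ι ⟨x, hxU⟩ ((Flat.iff_flat_stalkMap _).mp hU _)

theorem flat_of_nhd_smooth {X Y : Scheme.{u}} (f : X ⟶ Y) {x : X} (h : Nhd @Smooth f x) :
    (f.stalkMap x).hom.Flat :=
  flat_of_nhd f (h.imp fun U ⟨hx, hU⟩ => ⟨hx, inferInstance⟩)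

/-- An affine chart at a point, inside a given open. -/
theorem exists_chart {X Y : Scheme.{u}} (f : X ⟶ Y) {x : X} {O : X.Opens} (hx : x ∈ O) :
    ∃ (A B : CommRingCat.{u}) (j : Spec B ⟶ X) (ι : Spec A ⟶ Y) (φ : A ⟶ B)
      (_ : IsOpenImmersion j) (_ : IsOpenImmersion ι) (q : Spec B),
      j ≫ f = Spec.map φ ≫ ι ∧ j q = x ∧ ∀ u, j u ∈ O := by
  obtain ⟨U, hU, hxU, -⟩ := exists_isAffineOpen_mem_and_subset
    (X := Y) (x := f x) (U := ⊤) trivial
  obtain ⟨V, hV, hxV, hVle⟩ := exists_isAffineOpen_mem_and_subset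
    (X := X) (x := x) (U := f ⁻¹ᵁ U ⊓ O) ⟨hxU, hx⟩
  refine ⟨_, _, hV.fromSpec, hU.fromSpec, f.appLE U V (fun z hz => (hVle hz).1),
    inferInstance, inferInstance, hV.primeIdealOf ⟨x, hxV⟩, ?_, hV.fromSpec_primeIdealOf _, fun u => ?_⟩
  · exact (IsAffineOpen.SpecMap_appLE_fromSpec f hU hV _).symm
  · have : hV.fromSpec u ∈ (V : Set X) := by rw [← hV.range_fromSpec]; exact ⟨u, rfl⟩
    exact (hVle this).2

/-- The property at a point of an affine chart, on a principal open. -/
theorem nhd_of_away {P : MorphismProperty Scheme.{u}} {Q : ∀ {R S : Type u} [CommRing R] [CommRing S],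
      (R →+* S) → Prop} [HasRingHomProperty P Q] {A B : CommRingCat.{u}} (φ : A ⟶ B) (q : Spec B)
    (r : B) (hr : r ∉ q.asIdeal)
    (h : Q ((algebraMap B (Localization.Away r)).comp φ.hom)) : Nhd P (Spec.map φ) q := by
  let j := Spec.map (CommRingCat.ofHom (algebraMap B (Localization.Away r)))
  haveI : IsOpenImmersion j := IsOpenImmersion.of_isLocalization r
  obtain ⟨u, hu⟩ : q ∈ Set.range j := by
    rw [show Set.range j = (PrimeSpectrum.basicOpen r : Set (PrimeSpectrum B)) from
      PrimeSpectrum.localization_away_comap_range _ r]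
    exact hr
  rw [← hu]
  refine nhd_of_openImm _ j u ?_
  rw [← Spec.map_comp]
  exact (HasRingHomProperty.Spec_iff (P := P)).mpr h

/-- Fibre criterion for being unramified at a point (ring version). -/
theorem isUnramifiedAt_of_fiber {A B : Type u} [CommRing A] [CommRing B] [Algebra A B]
    [Algebra.EssFiniteType A B] (q : Ideal B) [q.IsPrime]
    (h : Algebra.FormallyUnramified (q.under A).ResidueField ((q.under A).Fiber B)) :
    Algebra.IsUnramifiedAt A q := by
  suffices (⟨q, ‹_›⟩ : PrimeSpectrum B) ∈ Algebra.unramifiedLocus A B from this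
  rw [Algebra.unramifiedLocus_eq_compl_support, Set.mem_compl_iff,
    Module.mem_support_iff_nontrivial_residueField_tensorProduct, not_nontrivial_iff_subsingleton]
  let p : Ideal A := q.under A
  let g := Ideal.ResidueField.mapₐ p q (Algebra.ofId A B) rfl
  letI : Algebra p.ResidueField q.ResidueField := g.toRingHom.toAlgebra
  haveI : IsScalarTower A p.ResidueField q.ResidueField :=
    IsScalarTower.of_algebraMap_eq fun r => (g.commutes r).symm
  have h1 : Subsingleton (p.ResidueField ⊗[A] Ω[B⁄A]) :=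
    (KaehlerDifferential.tensorKaehlerEquivBase A p.ResidueField B (p.Fiber B)).toEquiv.subsingleton
  have h2 : Subsingleton (q.ResidueField ⊗[A] Ω[B⁄A]) :=
    (TensorProduct.AlgebraTensorModule.cancelBaseChange A p.ResidueField p.ResidueField
      q.ResidueField Ω[B⁄A]).symm.toEquiv.subsingleton
  have h3 : Function.Surjective
      (TensorProduct.mapOfCompatibleSMul B A B q.ResidueField Ω[B⁄A]) :=
    fun x => TensorProduct.mapOfCompatibleSMul_surjective _ _ _ _ _ x
  exact h3.subsingleton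

/-- The fibre of an affine chart has the property of the fibre of the morphism near the point. -/
theorem fiber_chart {P : MorphismProperty Scheme.{u}} [P.IsStableUnderBaseChange]
    [IsZariskiLocalAtSource P] {X Y : Scheme.{u}} (f : X ⟶ Y) (y : Y) {O : X.Opens}
    {W : (f.fiber y).Opens} (hOW : f.fiberι y ⁻¹ᵁ O ≤ W) (hW : P (W.ι ≫ f.fiberToSpecResidueField y))
    {A B : CommRingCat.{u}} (j : Spec B ⟶ X) (ι : Spec A ⟶ Y) (φ : A ⟶ B) [IsOpenImmersion j]
    [IsOpenImmersion ι] (e : j ≫ f = Spec.map φ ≫ ι) (hj : ∀ u, j u ∈ O) (p : Spec A) (hp : ι p = y) :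
    P ((Spec.map φ).fiberToSpecResidueField p) := by
  subst hp
  have sq : IsPullback (𝟙 _) (Spec.map φ) (j ≫ f) ι := e ▸ isPullback_of_mono (Spec.map φ) ι
  refine MorphismProperty.of_isPullback
    (isPullback_fiberToSpecResidueField_of_isPullback sq p) ?_
  let i := f.fiberι (ι p)
  have hr : Set.range (pullback.fst i j) ⊆ Set.range W.ι := by
    rw [Scheme.Opens.range_ι]
    rintro _ ⟨z, rfl⟩
    refine hOW ?_
    show i (pullback.fst i j z) ∈ O
    rw [← Scheme.Hom.comp_apply, pullback.condition, Scheme.Hom.comp_apply]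
    exact hj _
  let l := IsOpenImmersion.lift W.ι (pullback.fst i j) hr
  have hl : l ≫ W.ι = pullback.fst i j := IsOpenImmersion.lift_fac _ _ _
  haveI : IsOpenImmersion (l ≫ W.ι) := hl ▸ inferInstance
  haveI : IsOpenImmersion l := IsOpenImmersion.of_comp l W.ι
  have key : P (pullback.fst i j ≫ f.fiberToSpecResidueField (ι p)) := by
    rw [← hl, Category.assoc]
    exact IsZariskiLocalAtSource.comp hW _
  let pst := (IsPullback.of_hasPullback i j).flip.paste_vert
    (IsPullback.of_hasPullback f (Y.fromSpecResidueField (ι p)))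
  show P (pullback.snd (j ≫ f) (Y.fromSpecResidueField (ι p)))
  refine (P.cancel_left_of_respectsIso (pst.isoIsPullback _ _
    (IsPullback.of_hasPullback (j ≫ f) (Y.fromSpecResidueField (ι p)))).hom _).mp ?_
  rw [IsPullback.isoIsPullback_hom_snd]
  exact key

/-- Fibre criterion for being unramified at a point. -/
theorem nhd_formallyUnramified_of_fiber {X Y : Scheme.{u}} (f : X ⟶ Y) [LocallyOfFiniteType f]
    (x : X) (h : Nhd @FormallyUnramified (f.fiberToSpecResidueField (f x)) (f.asFiber x)) :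
    Nhd @FormallyUnramified f x := by
  obtain ⟨W, hxW, hW⟩ := h
  obtain ⟨O, hO, hOW⟩ := (f.fiberι (f x)).isEmbedding.isInducing.isOpen_iff.mp W.2
  have hxO : x ∈ O := by
    have : f.asFiber x ∈ f.fiberι (f x) ⁻¹' O := hOW.symm ▸ hxW
    rwa [Set.mem_preimage, Scheme.Hom.fiberι_asFiber] at this
  obtain ⟨A, B, j, ι, φ, hj1, hι, q, e, hq, hjO⟩ := exists_chart f (O := ⟨O, hO⟩) hxO
  haveI : LocallyOfFiniteType (Spec.map φ) := by
    haveI : LocallyOfFiniteType (Spec.map φ ≫ ι) := e ▸ inferInstance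
    exact locallyOfFiniteType_of_comp _ ι
  rw [← hq]
  suffices key : Nhd @FormallyUnramified (Spec.map φ) q by
    obtain ⟨U, hu, hU⟩ := key
    refine nhd_of_openImm (P := @FormallyUnramified) f (U.ι ≫ j) ⟨q, hu⟩ ?_
    rw [Category.assoc, e, ← Category.assoc]
    exact MorphismProperty.comp_mem _ _ _ hU inferInstance
  letI : Algebra A B := φ.hom.toAlgebra
  haveI : Algebra.FiniteType A B := (HasRingHomProperty.Spec_iff (P := @LocallyOfFiniteType)).mp
    (inferInstanceAs (LocallyOfFiniteType (Spec.map φ)))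
  let p : Spec A := Spec.map φ q
  have hfib := fiber_chart (P := @FormallyUnramified) f (f x) (O := ⟨O, hO⟩) (le_of_eq
    (Opens.ext hOW)) hW j ι φ e hjO p (by
      rw [← hq, ← Scheme.Hom.comp_apply, ← Scheme.Hom.comp_apply, e])
  have hfib' : Algebra.FormallyUnramified (q.asIdeal.under A).ResidueField
      ((q.asIdeal.under A).Fiber B) := by
    exact RingHom.formallyUnramified_algebraMap.mp
      ((HasRingHomProperty.Spec_iff (P := @FormallyUnramified)).mp
        ((MorphismProperty.arrow_mk_iso_iff (P := @FormallyUnramified)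
          (Spec.fiberToSpecResidueFieldIso A B p)).mp hfib))
  haveI := isUnramifiedAt_of_fiber q.asIdeal hfib'
  obtain ⟨r, hr, hru⟩ := Algebra.exists_formallyUnramified_of_isUnramifiedAt (R := A) q.asIdeal
  exact nhd_of_away (P := @FormallyUnramified) φ q r hr
    (by rw [show (algebraMap B (Localization.Away r)).comp φ.hom =
      algebraMap A (Localization.Away r) from rfl]; exact RingHom.formallyUnramified_algebraMap.mpr hru)

/-- Fibre criterion for smoothness at a point. -/
theorem nhd_smooth_of_fiber {X Y : Scheme.{u}} (f : X ⟶ Y) [LocallyOfFinitePresentation f]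
    (x : X) (hflat : (f.stalkMap x).hom.Flat)
    (h : Nhd @Smooth (f.fiberToSpecResidueField (f x)) (f.asFiber x)) :
    Nhd @Smooth f x := by
  obtain ⟨W, hxW, hW⟩ := h
  obtain ⟨O', hO', hOW⟩ := (f.fiberι (f x)).isEmbedding.isInducing.isOpen_iff.mp W.2
  have hxO' : x ∈ O' := by
    have : f.asFiber x ∈ f.fiberι (f x) ⁻¹' O' := hOW.symm ▸ hxW
    rwa [Set.mem_preimage, Scheme.Hom.fiberι_asFiber] at this
  let O : X.Opens := ⟨O' ∩ {z | (f.stalkMap z).hom.Flat},
    hO'.inter (Groth.L20.isOpen_flat_stalkMap f)⟩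
  obtain ⟨A, B, j, ι, φ, hj1, hι, q, e, hq, hjO⟩ := exists_chart f (O := O) ⟨hxO', hflat⟩
  haveI : LocallyOfFinitePresentation (Spec.map φ) := by
    haveI : LocallyOfFinitePresentation (Spec.map φ ≫ ι) := e ▸ inferInstance
    exact Groth.L20.locallyOfFinitePresentation_of_comp _ ι
  haveI : Flat (Spec.map φ) := by
    refine (Flat.iff_flat_stalkMap _).mpr fun u => ?_
    have h1 : ((j ≫ f).stalkMap u).hom.Flat := by
      rw [Scheme.Hom.stalkMap_comp]
      exact RingHom.Flat.comp (hjO u).2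
        (RingHom.Flat.of_bijective (ConcreteCategory.bijective_of_isIso (j.stalkMap u)))
    have h2 : ((Spec.map φ ≫ ι).stalkMap u).hom.Flat := by
      rw [Scheme.Hom.stalkMap_congr_hom _ _ e.symm, CommRingCat.hom_comp]
      exact RingHom.Flat.comp (RingHom.Flat.of_bijective
        (ConcreteCategory.bijective_of_isIso _)) h1
    rw [Scheme.Hom.stalkMap_comp] at h2
    have e2 : (Spec.map φ).stalkMap u =
        inv (ι.stalkMap (Spec.map φ u)) ≫ ι.stalkMap (Spec.map φ u) ≫ (Spec.map φ).stalkMap u := by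
      simp
    rw [e2]
    exact RingHom.Flat.comp (RingHom.Flat.of_bijective
      (ConcreteCategory.bijective_of_isIso (inv (ι.stalkMap (Spec.map φ u))))) h2
  rw [← hq]
  suffices key : Nhd @Smooth (Spec.map φ) q by
    obtain ⟨U, hu, hU⟩ := key
    refine nhd_of_openImm (P := @Smooth) f (U.ι ≫ j) ⟨q, hu⟩ ?_
    rw [Category.assoc, e, ← Category.assoc]
    exact MorphismProperty.comp_mem _ _ _ hU inferInstance
  letI : Algebra A B := φ.hom.toAlgebra
  haveI : Algebra.FinitePresentation A B :=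
    (HasRingHomProperty.Spec_iff (P := @LocallyOfFinitePresentation)).mp
      (inferInstanceAs (LocallyOfFinitePresentation (Spec.map φ)))
  haveI : Module.Flat A B :=
    (HasRingHomProperty.Spec_iff (P := @Flat)).mp (inferInstanceAs (Flat (Spec.map φ)))
  let p : Spec A := Spec.map φ q
  have hfib := fiber_chart (P := @Smooth) f (f x) (O := O) (fun z hz =>
    (Set.ext_iff.mp hOW z).mp hz.1) hW j ι φ e hjO p (by
      rw [← hq, ← Scheme.Hom.comp_apply, ← Scheme.Hom.comp_apply, e])
  haveI hfib' : Algebra.Smooth (q.asIdeal.under A).ResidueField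
      ((q.asIdeal.under A).Fiber B) := by
    exact RingHom.smooth_algebraMap.mp
      ((HasRingHomProperty.Spec_iff (P := @Smooth)).mp
        ((MorphismProperty.arrow_mk_iso_iff (P := @Smooth)
          (Spec.fiberToSpecResidueFieldIso A B p)).mp hfib))
  haveI := Algebra.IsSmoothAt.of_formallySmooth_fiber (R := A) (q.asIdeal.under A) q.asIdeal
  obtain ⟨r, hr, hru⟩ := Algebra.IsSmoothAt.exists_notMem_smooth A q.asIdeal
  exact nhd_of_away (P := @Smooth) φ q r hr
    (by rw [show (algebraMap B (Localization.Away r)).comp φ.hom =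
      algebraMap A (Localization.Away r) from rfl]; exact RingHom.smooth_algebraMap.mpr hru)

/-- Étale at a point = unramified and flat. -/
theorem nhd_etale_iff {X Y : Scheme.{u}} (f : X ⟶ Y) [LocallyOfFinitePresentation f] (x : X) :
    Nhd @Etale f x ↔ Nhd @FormallyUnramified f x ∧ (f.stalkMap x).hom.Flat := by
  refine ⟨fun ⟨U, hx, hU⟩ => ⟨⟨U, hx, inferInstance⟩, flat_of_nhd f ⟨U, hx, inferInstance⟩⟩,
    fun ⟨h, hf⟩ => ?_⟩
  obtain ⟨W, hxW, hWV, hW⟩ := nhd_mono h
    (V := ⟨_, Groth.L20.isOpen_flat_stalkMap f⟩) hf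
  refine ⟨W, hxW, ?_⟩
  haveI : Flat (W.ι ≫ f) := (Flat.iff_flat_stalkMap _).mpr fun u => by
    rw [Scheme.Hom.stalkMap_comp]
    exact RingHom.Flat.comp (hWV u.2)
      (RingHom.Flat.of_bijective (ConcreteCategory.bijective_of_isIso (W.ι.stalkMap u)))
  exact Etale.of_formallyUnramified_of_flat _

end Groth.L05.Point
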