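import Groth.Agent.L05.Point.BaseChange
import Mathlib.AlgebraicGeometry.Stalk

/-!
# Unramified after flat
-/

set_option autoImplicit false
set_option linter.style.haveILetI false
set_option backward.isDefEq.respectTransparency false
set_option backward.isDefEq.respectTransparency.types false

universe u

open CategoryTheory CategoryTheory.Limits AlgebraicGeometry TopologicalSpace

namespace Groth.L05.Point

theorem flat_fromSpecStalk {X : Scheme.{u}} (x : X) : Flat (X.fromSpecStalk x) := by
  have := flat_fromSpecStalk_comp (𝟙 X) x (by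
    rw [Scheme.Hom.stalkMap_id]
    exact RingHom.Flat.id _)
  rwa [Category.comp_id] at this

theorem bijective_stalkMap_fromSpecStalk {X : Scheme.{u}} (x : X)
    (c : Spec (X.presheaf.stalk x)) :
    Function.Bijective ((X.fromSpecStalk x).stalkMap c).hom := by
  refine ⟨?_, (X.fromSpecStalk x).stalkMap_surjective c⟩
  have hf : ((X.fromSpecStalk x).stalkMap c).hom.Flat :=
    (Flat.iff_flat_stalkMap _).mp (flat_fromSpecStalk x) c
  algebraize [((X.fromSpecStalk x).stalkMap c).hom]
  haveI : IsLocalHom (algebraMap (X.presheaf.stalk (X.fromSpecStalk x c))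
      ((Spec (X.presheaf.stalk x)).presheaf.stalk c)) :=
    inferInstanceAs (IsLocalHom ((X.fromSpecStalk x).stalkMap c).hom)
  haveI : Module.Flat (X.presheaf.stalk (X.fromSpecStalk x c))
      ((Spec (X.presheaf.stalk x)).presheaf.stalk c) := hf
  haveI : Module.FaithfullyFlat (X.presheaf.stalk (X.fromSpecStalk x c))
      ((Spec (X.presheaf.stalk x)).presheaf.stalk c) := Module.FaithfullyFlat.of_flat_of_isLocalHom
  exact FaithfulSMul.algebraMap_injective (X.presheaf.stalk (X.fromSpecStalk x c))
    ((Spec (X.presheaf.stalk x)).presheaf.stalk c)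

/-- If `h` is unramified at the image and the composite is flat, then the first map is flat. -/
theorem flat_of_unramified_of_comp {X Y S : Scheme.{u}} (h : Y ⟶ S) [LocallyOfFiniteType h]
    (g : X ⟶ Y) (x : X) (hu : Nhd @FormallyUnramified h (g x))
    (hf : ((g ≫ h).stalkMap x).hom.Flat) : (g.stalkMap x).hom.Flat := by
  obtain ⟨V, hxV, hV⟩ := hu
  let j := X.fromSpecStalk x
  have hr : Set.range (j ≫ g) ⊆ Set.range V.ι := by
    rw [Scheme.Opens.range_ι]
    rintro _ ⟨z, rfl⟩
    have hz : j z ⤳ x := Scheme.range_fromSpecStalk.le ⟨z, rfl⟩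
    exact (hz.map g.continuous).mem_open V.2 hxV
  let l := IsOpenImmersion.lift V.ι (j ≫ g) hr
  have hl : l ≫ V.ι = j ≫ g := IsOpenImmersion.lift_fac _ _ _
  let k := V.ι ≫ h
  have hk : l ≫ k = j ≫ g ≫ h := by rw [← Category.assoc, hl, Category.assoc]
  haveI : Flat (l ≫ k) := hk ▸ flat_fromSpecStalk_comp (g ≫ h) x hf
  haveI : FormallyUnramified k := hV
  haveI : LocallyOfFiniteType k := inferInstanceAs (LocallyOfFiniteType (V.ι ≫ h))
  let Γ : Spec (X.presheaf.stalk x) ⟶ pullback (l ≫ k) k :=
    pullback.lift (𝟙 _) l (Category.id_comp _)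
  haveI : FormallyUnramified (pullback.fst (l ≫ k) k) := MorphismProperty.pullback_fst _ _ ‹_›
  haveI : LocallyOfFiniteType (pullback.fst (l ≫ k) k) := MorphismProperty.pullback_fst _ _ ‹_›
  haveI : Etale (Γ ≫ pullback.fst (l ≫ k) k) := by
    rw [pullback.lift_fst]
    infer_instance
  haveI : Etale Γ := Etale.of_comp Γ (pullback.fst (l ≫ k) k)
  haveI : Flat (pullback.snd (l ≫ k) k) := MorphismProperty.pullback_snd _ _ ‹_›
  haveI : Flat (j ≫ g) := by
    haveI : Flat l := by
      have e : Γ ≫ pullback.snd (l ≫ k) k = l := pullback.lift_snd _ _ _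
      exact e ▸ inferInstanceAs (Flat (Γ ≫ pullback.snd (l ≫ k) k))
    rw [← hl]
    infer_instance
  have hc : j (IsLocalRing.closedPoint _) = x := Scheme.fromSpecStalk_closedPoint
  have h1 := (Flat.iff_flat_stalkMap (j ≫ g)).mp ‹_› (IsLocalRing.closedPoint _)
  rw [Scheme.Hom.stalkMap_comp] at h1
  let e := RingEquiv.ofBijective _
    (bijective_stalkMap_fromSpecStalk x (IsLocalRing.closedPoint _))
  have h2 : (g.stalkMap (j (IsLocalRing.closedPoint _))).hom.Flat := by
    have e2 : (g.stalkMap (j (IsLocalRing.closedPoint _))).hom = e.symm.toRingHom.comp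
        ((g.stalkMap _ ≫ j.stalkMap (IsLocalRing.closedPoint _)).hom) := by
      ext a
      exact (e.symm_apply_apply _).symm
    rw [e2]
    exact RingHom.Flat.comp h1 (RingHom.Flat.of_bijective e.symm.bijective)
  exact hc ▸ h2

/-- Unramified at the image and flat composite give étale at the image. -/
theorem etale_and_flat_of_unramified_of_comp {X Y S : Scheme.{u}} (h : Y ⟶ S)
    [LocallyOfFinitePresentation h] (g : X ⟶ Y) (x : X) (hu : Nhd @FormallyUnramified h (g x))
    (hf : ((g ≫ h).stalkMap x).hom.Flat) :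
    Nhd @Etale h (g x) ∧ (g.stalkMap x).hom.Flat := by
  have hg := flat_of_unramified_of_comp h g x hu hf
  exact ⟨(nhd_etale_iff h (g x)).mpr ⟨hu, Groth.L20.flat_stalkMap_of_comp g h x hf hg⟩, hg⟩

end Groth.L05.Point
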