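import Mathlib.Algebra.DualNumber
import Mathlib.RingTheory.LocalRing.Module
import Mathlib.RingTheory.EssentialFiniteness
import Mathlib.RingTheory.Kaehler.Basic
import Mathlib.RingTheory.Unramified.Basic
import Mathlib.LinearAlgebra.Dual.Lemmas
import Mathlib.RingTheory.LocalRing.ResidueField.Basic
import Mathlib.Tactic.Ring

/-!
# Unramifiedness tested on dual numbers
-/

universe u

namespace Groth.L05.Point

open scoped TensorProduct

set_option backward.isDefEq.respectTransparency.types false

/-- A local essentially finite type algebra is unramified if the residue map has only the constant lift to the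
dual numbers of the residue field. -/
theorem formallyUnramified_of_dualNumber (A B : Type u) [CommRing A] [CommRing B] [IsLocalRing B] [Algebra A B]
    [Algebra.EssFiniteType A B]
    (H : ∀ g : B →+* DualNumber (IsLocalRing.ResidueField B),
      (∀ b, TrivSqZeroExt.fst (g b) = IsLocalRing.residue B b) →
      (∀ a, g (algebraMap A B a) = TrivSqZeroExt.inl (IsLocalRing.residue B (algebraMap A B a))) →
      ∀ b, g b = TrivSqZeroExt.inl (IsLocalRing.residue B b)) :
    Algebra.FormallyUnramified A B := by
  rw [Algebra.formallyUnramified_iff]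
  let κ := IsLocalRing.ResidueField B
  rw [← IsLocalRing.subsingleton_tensorProduct (R := B)]
  by_contra hne
  rw [not_subsingleton_iff_nontrivial] at hne
  let V₁ := TensorProduct B κ (KaehlerDifferential A B)
  obtain ⟨v, hv⟩ := exists_ne (0 : V₁)
  obtain ⟨ℓ, hℓ⟩ : ∃ ℓ : Module.Dual κ V₁, ℓ v ≠ 0 := by
    by_contra hcon
    push Not at hcon
    exact hv ((Module.forall_dual_apply_eq_zero_iff κ v).1 hcon)
  let D : B → κ := fun b => ℓ ((1 : κ) ⊗ₜ[B] KaehlerDifferential.D A B b)
  have hDadd : ∀ a b, D (a + b) = D a + D b := fun a b => by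
    simp only [D, map_add, TensorProduct.tmul_add]
  have hDmul : ∀ a b, D (a * b) = IsLocalRing.residue B a * D b + IsLocalRing.residue B b * D a := fun a b => by
    simp only [D, Derivation.leibniz, TensorProduct.tmul_add, map_add]
    congr 1 <;>
    · rw [TensorProduct.tmul_smul, ← algebraMap_smul κ, map_smul, smul_eq_mul]
      rfl
  have hDA : ∀ a : A, D (algebraMap A B a) = 0 := fun a => by simp [D]
  let g₁ : B →+* DualNumber κ := (TrivSqZeroExt.inlHom κ κ).comp (IsLocalRing.residue B)
  let g₂ : B →+* DualNumber κ :=
    { toFun := fun b => (IsLocalRing.residue B b, D b)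
      map_one' := TrivSqZeroExt.ext (map_one (IsLocalRing.residue B)) (show D 1 = 0 from by simp [D])
      map_zero' := TrivSqZeroExt.ext (map_zero (IsLocalRing.residue B)) (show D 0 = 0 from by simp [D])
      map_add' := fun a b => TrivSqZeroExt.ext (map_add (IsLocalRing.residue B) a b) (hDadd a b)
      map_mul' := fun a b => TrivSqZeroExt.ext (map_mul (IsLocalRing.residue B) a b) (by
        rw [DualNumber.snd_mul]
        show D (a * b) = IsLocalRing.residue B a * D b + D a * IsLocalRing.residue B b
        rw [hDmul]; ring) }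
  have hEQ : g₁ = g₂ := RingHom.ext fun b => (H g₂ (fun _ => rfl)
    (fun a => TrivSqZeroExt.ext rfl (hDA a)) b).symm
  apply hℓ
  have hD0 : ∀ w : KaehlerDifferential A B, ℓ ((1 : κ) ⊗ₜ[B] w) = 0 := by
    intro w
    induction (KaehlerDifferential.span_range_derivation A B).symm ▸ (Submodule.mem_top : w ∈ ⊤) using Submodule.span_induction with
    | mem w hw =>
      obtain ⟨b, rfl⟩ := hw
      exact (congrArg TrivSqZeroExt.snd (RingHom.congr_fun hEQ b)).symm
    | zero => simp
    | add u v _ _ hu hv => rw [TensorProduct.tmul_add, map_add, hu, hv, add_zero]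
    | smul r u _ hu => rw [TensorProduct.tmul_smul, ← algebraMap_smul κ, map_smul, hu, smul_zero]
  clear hℓ
  induction v using TensorProduct.induction_on with
  | zero => exact map_zero _
  | tmul c w =>
    rw [show c ⊗ₜ[B] w = c • ((1 : κ) ⊗ₜ[B] w) by rw [TensorProduct.smul_tmul', smul_eq_mul, mul_one],
      map_smul, hD0, smul_zero]
  | add u w hu hw =>
    by_cases hu0 : u = 0
    · subst hu0; rw [zero_add] at hv ⊢; exact hw hv
    by_cases hw0 : w = 0
    · subst hw0; rw [add_zero] at hv ⊢; exact hu hv
    rw [map_add, hu hu0, hw hw0, add_zero]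

end Groth.L05.Point
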